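import Cfsg.Agent.Lib.CosetEnum.LyG2.Words
import Cfsg.Agent.Lib.CosetEnum.LyG2.MatsData
import Cfsg.Agent.Lib.BigMat.Sem
import Cfsg.Prelude.Def_ChevG2

/-!
# Checks on the six matrices generating G2(5)
-/

set_option autoImplicit false
set_option maxRecDepth 20000

namespace Cfsg.Lib.CosetEnum.LyG2

open Cfsg.Lie

instance fact_prime_five : Fact (Nat.Prime 5) := ⟨by norm_num⟩

/-- The matrix of a letter. -/
noncomputable def gmat (g : ℕ) : ℕ := genMats.get g

/-- The matrix of a root element. -/
noncomputable def rmat (i : ℕ) : ℕ := rootMats.get i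

theorem gmat_ok : ∀ g < 12, BigMat.matOK 14 (gmat g) = true := by decide +kernel

theorem rmat_ok : ∀ i < 60, BigMat.matOK 14 (rmat i) = true := by decide +kernel

theorem gmat_inv : ∀ g < 12,
    Nat.beq (BigMat.mul 14 (gmat g) (gmat (Signed.flipAt 6 g))) (BigMat.one 14) = true := by
  decide +kernel

theorem rels_ok :
    ((List.range 44).all fun j =>
      Nat.beq (BigMat.prodWord 14 gmat (relWord j).reverse) (BigMat.one 14)) = true := by
  decide +kernel

theorem rootWords_ok :
    ((List.range 60).all fun i => (rootWords.getD i []).all (fun g => Nat.blt g 12) &&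
      Nat.beq (BigMat.prodWord 14 gmat (rootWords.getD i []).reverse) (rmat i)) = true := by
  decide +kernel

theorem genRootWords_ok :
    ((List.range 6).all fun g => (genRootWords.getD g []).all (fun i => Nat.blt i 60) &&
      Nat.beq (BigMat.prodWord 14 rmat (genRootWords.getD g []).reverse) (gmat g)) = true := by
  decide +kernel

/-- The stored root elements are those of the Chevalley group, entry by entry. -/
theorem rmat_entries : ∀ (r : Fin 12) (t : Fin 5) (p q : Fin 14),
    ((BigMat.ent 14 (rmat (5 * r.1 + t.1)) p q : ℕ) : ZMod 5) =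
      chevG2.xMat (ZMod 5) r ((t.1 : ℕ) : ZMod 5)
        ((finSumFinEquiv (m := 2) (n := 12)).symm p) ((finSumFinEquiv (m := 2) (n := 12)).symm q) := by
  decide +kernel

end Cfsg.Lib.CosetEnum.LyG2
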