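import Cfsg.Agent.Lib.CosetEnum.Signed.Words
import Cfsg.Prelude.Def_Spor_Ly
import Mathlib

/-!
# The relators of the Lyons group without `z` as words in `a, b, c, d, e, c5`
-/

set_option autoImplicit false

namespace Cfsg.Lib.CosetEnum.LyG2

open Cfsg.Spor

/-- The generators occurring in the first 44 relators as words in `a, b, c, d, e, c5` (letters 0 to 5)
and their inverses (letters 6 to 11). -/
def genWord : Ly.Gen → List ℕ
  | .a => [0]
  | .b => [1]
  | .c => [2]
  | .d => [3]
  | .e => [4]
  | .c5 => [5]
  | .c1 => [2]
  | .c2 => [6, 2, 0]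
  | .c3 => [7, 2, 1]
  | .c4 => [1, 2, 7]
  | _ => []

/-- The word of a relator. -/
def relWord (j : ℕ) : List ℕ := Signed.relatorWord 6 genWord (Ly.extra.getD j 1)

/-- The words of the first 44 relators. -/
def wordList : List (List ℕ) := (List.range 44).map relWord

theorem genWord_lt : ∀ g : Ly.Gen, ∀ l ∈ genWord g, l < 6 + 6 := by
  intro g
  cases g <;> decide

theorem gens_used :
    ((List.range 44).all fun j => (Ly.extra.getD j 1).toWord.all fun p => !(genWord p.1).isEmpty) = true := by
  decide +kernel

theorem le_length_extra : 44 ≤ Ly.extra.length := by decide +kernel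

end Cfsg.Lib.CosetEnum.LyG2
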