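import Mathlib
import Cfsg.Agent.Lib.CosetEnum.LyG2.Words

/-!
# The group presented by the relators without `z`
-/

set_option autoImplicit false
set_option maxRecDepth 20000

namespace Cfsg.Lib.CosetEnum.LyG2

theorem wordList_lt : (wordList.all fun r => r.all fun g => Nat.blt g 12) = true := by decide +kernel

theorem relWord_lt {j : ℕ} (hj : j < 44) : ∀ g ∈ relWord j, g < 12 := fun g hg => by
  have h := List.all_eq_true.1 wordList_lt _ (List.mem_map.2 ⟨j, List.mem_range.2 hj, rfl⟩)
  simpa [Nat.blt_eq] using List.all_eq_true.1 h g hg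

/-- A letter as an element of the free group of rank six. -/
def freeLetter (g : ℕ) : FreeGroup (Fin 6) :=
  if h : g < 6 then FreeGroup.of ⟨g, h⟩
  else if h : g < 12 then (FreeGroup.of ⟨g - 6, by omega⟩)⁻¹ else 1

/-- The relators. -/
def sixRels : Set (FreeGroup (Fin 6)) :=
  {r | ∃ j < 44, r = ((relWord j).map freeLetter).prod}

/-- The group on six generators with the relators without `z`. -/
abbrev SixGroup : Type := PresentedGroup sixRels

/-- A letter as an element of the presented group. -/
def sixLetter (g : ℕ) : SixGroup := PresentedGroup.mk sixRels (freeLetter g)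

theorem sixLetter_pair : ∀ g < 6, sixLetter g * sixLetter (g + 6) = 1 := fun g hg => by
  have h1 : freeLetter g = FreeGroup.of ⟨g, hg⟩ := dif_pos hg
  have h2 : freeLetter (g + 6) = (FreeGroup.of ⟨g, hg⟩)⁻¹ := by
    rw [freeLetter, dif_neg (by omega), dif_pos (by omega)]
    simp
  rw [sixLetter, sixLetter, ← map_mul, h1, h2, mul_inv_cancel, map_one]

theorem sixLetter_rel : ∀ j < 44, ((relWord j).map sixLetter).prod = 1 := fun j hj => by
  have h : PresentedGroup.mk sixRels ((relWord j).map freeLetter).prod = 1 :=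
    PresentedGroup.one_of_mem ⟨j, hj, rfl⟩
  rw [map_list_prod, List.map_map] at h
  exact h

theorem sixLetter_gen : Subgroup.closure (sixLetter '' {g | g < 6}) = ⊤ := by
  rw [eq_top_iff, ← PresentedGroup.closure_range_of, Subgroup.closure_le]
  rintro _ ⟨i, rfl⟩
  refine Subgroup.subset_closure ⟨i.1, i.2, ?_⟩
  rw [sixLetter, freeLetter, dif_pos i.2]
  rfl

/-- Six elements satisfying the relators are images of the generators. -/
theorem exists_hom {G : Type*} [Group G] (e : ℕ → G) (he : ∀ g < 6, e g * e (g + 6) = 1)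
    (hrel : ∀ j < 44, ((relWord j).map e).prod = 1) :
    ∃ f : SixGroup →* G, (∀ g < 12, f (sixLetter g) = e g) ∧
      f.range = Subgroup.closure (e '' {g | g < 6}) := by
  have hl : ∀ g < 12, FreeGroup.lift (fun i : Fin 6 => e i.1) (freeLetter g) = e g := by
    intro g hg
    unfold freeLetter
    split_ifs with h
    · rw [FreeGroup.lift_apply_of]
    · rw [map_inv, FreeGroup.lift_apply_of]
      refine inv_eq_of_mul_eq_one_right ?_
      have := he (g - 6) (by omega)
      rwa [Nat.sub_add_cancel (by omega)] at this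
  have hr : ∀ r ∈ sixRels, FreeGroup.lift (fun i : Fin 6 => e i.1) r = 1 := by
    rintro _ ⟨j, hj, rfl⟩
    rw [map_list_prod, List.map_map]
    refine (congrArg List.prod (List.map_congr_left fun g hg => hl g (relWord_lt hj g hg))).trans ?_
    exact hrel j hj
  refine ⟨PresentedGroup.toGroup hr, fun g hg => ?_, ?_⟩
  · exact hl g hg
  · rw [MonoidHom.range_eq_map, ← sixLetter_gen, MonoidHom.map_closure]
    congr 1
    ext x
    constructor
    · rintro ⟨_, ⟨g, hg, rfl⟩, rfl⟩
      exact ⟨g, hg, (hl g (by have : g < 6 := hg; omega)).symm⟩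
    · rintro ⟨g, hg, rfl⟩
      exact ⟨_, ⟨g, hg, rfl⟩, hl g (by have : g < 6 := hg; omega)⟩

end Cfsg.Lib.CosetEnum.LyG2
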