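import Mathlib
import Cfsg.Agent.Lib.CosetEnum.LyG2.MatsChecks
import Cfsg.Agent.Lib.CosetEnum.LyG2.Presented
import Cfsg.Agent.Lib.BigMat.Units

/-!
# The map onto G2(5)
-/

set_option autoImplicit false

namespace Cfsg.Lib.CosetEnum.LyG2

open Cfsg.Lie

/-- Products of letters, seen after a homomorphism of matrix monoids. -/
theorem word_image {n : ℕ} {M : Type*} [Monoid M] (hn0 : 0 < n) (hn : n ≤ 127)
    (ψ : GL (Fin n) (ZMod 5) →* M) (F : ℕ → ℕ) (e : ℕ → GL (Fin n) (ZMod 5)) {N : ℕ}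
    (hok : ∀ g < N, BigMat.matOK n (F g) = true)
    (he : ∀ g < N, (e g : Matrix (Fin n) (Fin n) (ZMod 5)) = BigMat.toMat n (F g))
    {w : List ℕ} (hw : ∀ g ∈ w, g < N) {u : GL (Fin n) (ZMod 5)} {A : ℕ}
    (hu : (u : Matrix (Fin n) (Fin n) (ZMod 5)) = BigMat.toMat n A)
    (h : Nat.beq (BigMat.prodWord n F w.reverse) A = true) :
    ψ u = (w.map fun g => ψ (e g)).prod := by
  rw [show (w.map fun g => ψ (e g)) = (w.map e).map ψ by rw [List.map_map]; rfl, ← map_list_prod]
  congr 1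
  refine Units.ext ?_
  rw [BigMat.units_word F e fun g hg => he g (hw g hg), hu,
    BigMat.word_eq_of_beq hn0 hn F (fun g hg => BigMat.isMat_of_matOK (hok g (hw g hg))) h]

/-- The coordinates numbered in order. -/
def idxEquiv : Fin 14 ≃ chevG2.Idx := (finSumFinEquiv (m := 2) (n := 12)).symm

/-- Matrices on the numbered coordinates as matrices of the datum. -/
noncomputable def toIdx : GL (Fin 14) (ZMod 5) →* GL chevG2.Idx (ZMod 5) :=
  Units.map ((Matrix.reindexAlgEquiv (ZMod 5) (ZMod 5) idxEquiv : _ ≃ₐ[ZMod 5] _) :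
    Matrix (Fin 14) (Fin 14) (ZMod 5) →* Matrix chevG2.Idx chevG2.Idx (ZMod 5))

theorem rootMat_eq (r : Fin chevG2.nroots) (t : ZMod 5) :
    Matrix.reindexAlgEquiv (ZMod 5) (ZMod 5) idxEquiv (BigMat.toMat 14 (rmat (5 * r.1 + t.val))) =
      chevG2.xMat (ZMod 5) r t := by
  ext p q
  have h := rmat_entries r ⟨t.val, ZMod.val_lt t⟩ (idxEquiv.symm p) (idxEquiv.symm q)
  rw [show ((t.val : ℕ) : ZMod 5) = t from ZMod.natCast_zmod_val t] at h
  refine Eq.trans ?_ (h.trans ?_)
  · simp [BigMat.toMat]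
  · exact congr_arg₂ (chevG2.xMat (ZMod 5) r t) (idxEquiv.apply_symm_apply p)
      (idxEquiv.apply_symm_apply q)

/-- The presented group maps onto G2(5). -/
theorem exists_surjective :
    ∃ f : SixGroup →* chevG2.group (ZMod 5), Function.Surjective f := by
  have hflip : ∀ g < 12, Signed.flipAt 6 g < 12 ∧ Signed.flipAt 6 (Signed.flipAt 6 g) = g := by
    decide
  obtain ⟨e, he⟩ := BigMat.exists_units (n := 14) (by norm_num) (by norm_num) gmat
    (Signed.flipAt 6) hflip gmat_ok gmat_inv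
  have he1 : ∀ g < 12, (e g : Matrix (Fin 14) (Fin 14) (ZMod 5)) = BigMat.toMat 14 (gmat g) :=
    fun g hg => (he g hg).1
  have hpair : ∀ g < 6, toIdx (e g) * toIdx (e (g + 6)) = 1 := fun g hg => by
    have := (he g (by omega)).2
    rw [show Signed.flipAt 6 g = g + 6 from if_pos hg] at this
    rw [← map_mul, this, map_one]
  have hrel : ∀ j < 44, ((relWord j).map fun g => toIdx (e g)).prod = 1 := fun j hj => by
    have h := List.all_eq_true.1 rels_ok j (List.mem_range.2 hj)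
    rw [← word_image (by norm_num) (by norm_num) toIdx gmat e gmat_ok he1 (relWord_lt hj)
      (u := 1) (A := BigMat.one 14) (by rw [Units.val_one, BigMat.isMat_one.2]) h, map_one]
  obtain ⟨f, hf, hrange⟩ := exists_hom (fun g => toIdx (e g)) hpair hrel
  -- root elements
  let u : ℕ → GL (Fin 14) (ZMod 5) := fun i => ((rootWords.getD i []).map e).prod
  have hroot : ∀ i < 60, (∀ g ∈ rootWords.getD i [], g < 12) ∧
      (u i : Matrix (Fin 14) (Fin 14) (ZMod 5)) = BigMat.toMat 14 (rmat i) := fun i hi => by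
    have h := List.all_eq_true.1 rootWords_ok i (List.mem_range.2 hi)
    simp only [Bool.and_eq_true, List.all_eq_true, Nat.blt_eq] at h
    refine ⟨h.1, ?_⟩
    rw [show (u i : Matrix (Fin 14) (Fin 14) (ZMod 5)) = _ from
      BigMat.units_word gmat e fun g hg => he1 g (h.1 g hg)]
    exact BigMat.word_eq_of_beq (by norm_num) (by norm_num) gmat
      (fun g hg => BigMat.isMat_of_matOK (gmat_ok g (h.1 g hg))) h.2
  have huf : ∀ i < 60, toIdx (u i) ∈ f.range := fun i hi => by
    rw [show toIdx (u i) = ((rootWords.getD i []).map fun g => toIdx (e g)).prod by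
      rw [map_list_prod, List.map_map]; rfl]
    refine Subgroup.list_prod_mem _ fun a ha => ?_
    obtain ⟨g, hg, rfl⟩ := List.mem_map.1 ha
    exact ⟨_, hf g ((hroot i hi).1 g hg)⟩
  have hval : ∀ (r : Fin chevG2.nroots) (t : ZMod 5), 5 * r.1 + t.val < 60 ∧
      (toIdx (u (5 * r.1 + t.val)) : Matrix chevG2.Idx chevG2.Idx (ZMod 5)) =
        chevG2.xMat (ZMod 5) r t := fun r t => by
    have hr : r.1 < 12 := r.2
    have ht : t.val < 5 := ZMod.val_lt t
    have hi : 5 * r.1 + t.val < 60 := by omega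
    refine ⟨hi, ?_⟩
    rw [← rootMat_eq r t, ← (hroot _ hi).2]
    rfl
  have hle : f.range ≤ chevG2.group (ZMod 5) := by
    rw [hrange, Subgroup.closure_le]
    rintro _ ⟨g, hg, rfl⟩
    have hg : g < 6 := hg
    have h := List.all_eq_true.1 genRootWords_ok g (List.mem_range.2 hg)
    simp only [Bool.and_eq_true, List.all_eq_true, Nat.blt_eq] at h
    show toIdx (e g) ∈ chevG2.group (ZMod 5)
    rw [word_image (by norm_num) (by norm_num) toIdx rmat u rmat_ok
      (fun i hi => (hroot i hi).2) h.1 (he1 g (by omega)) h.2]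
    refine Subgroup.list_prod_mem _ fun a ha => ?_
    obtain ⟨i, hi, rfl⟩ := List.mem_map.1 ha
    have hi60 := h.1 i hi
    obtain ⟨-, hx⟩ := hval ⟨i / 5, show i / 5 < 12 by omega⟩ ((i % 5 : ℕ) : ZMod 5)
    refine Subgroup.subset_closure ⟨⟨i / 5, show i / 5 < 12 by omega⟩, ((i % 5 : ℕ) : ZMod 5), ?_⟩
    rw [← hx, ZMod.val_natCast, Nat.mod_mod, Nat.div_add_mod]
  have heq : f.range = chevG2.group (ZMod 5) := by
    refine le_antisymm hle ((Subgroup.closure_le _).2 ?_)
    rintro x ⟨r, t, hx⟩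
    obtain ⟨hi, hv⟩ := hval r t
    rw [SetLike.mem_coe, show x = toIdx (u (5 * r.1 + t.val)) from Units.ext (hx.trans hv.symm)]
    exact huf _ hi
  refine ⟨f.codRestrict _ fun x => heq ▸ ⟨x, rfl⟩, fun y => ?_⟩
  have hy : (y : GL chevG2.Idx (ZMod 5)) ∈ f.range := by rw [heq]; exact y.2
  obtain ⟨x, hx⟩ := hy
  exact ⟨x, Subtype.ext hx⟩

end Cfsg.Lib.CosetEnum.LyG2
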