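import Mathlib
import Cfsg.Agent.Lib.CosetEnum.Signed.Sound
import Cfsg.Agent.Lib.CosetEnum.LyG2.Words
import Cfsg.Agent.Lib.CosetEnum.LyG2.A.Valid
import Cfsg.Agent.Lib.CosetEnum.LyG2.AB.Valid
import Cfsg.Agent.Lib.CosetEnum.LyG2.P.Valid
import Cfsg.Agent.Lib.CosetEnum.LyG2.Full.Valid

/-!
# The order of a group with six generators satisfying the relators without `z`
-/

set_option autoImplicit false
set_option maxRecDepth 20000

namespace Cfsg.Lib.CosetEnum.LyG2

/-- Every relator of a certificate is a relator word or a pair of opposite letters. -/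
def coversRels (c : Signed.Cert) : Bool :=
  c.R.all fun r => wordList.any (beqW r) || r.isEmpty ||
    ((List.range 6).any fun g => beqW r [g, g + 6] || beqW r [g + 6, g])

/-- The subgroup words of a certificate use the letters of the previous one. -/
def coversSub (S : List ℕ) (c : Signed.Cert) : Bool :=
  c.U.all fun u => u.all fun g => Nat.blt g 12 && S.any (Nat.beq g)

/-- All letters of a certificate are below twelve. -/
def lettersOK (c : Signed.Cert) : Bool :=
  Nat.beq c.k 6 && ((c.R ++ c.U).all fun r => r.all fun g => Nat.blt g 12)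

theorem A_ok : (coversRels A.step && lettersOK A.step && coversSub [] A.step) = true := by decide +kernel

theorem AB_ok : (coversRels AB.step && lettersOK AB.step && coversSub A.step.S AB.step) = true := by
  decide +kernel

theorem P_ok : (coversRels P.step && lettersOK P.step && coversSub AB.step.S P.step) = true := by
  decide +kernel

theorem Full_ok : (coversRels Full.step && lettersOK Full.step && coversSub P.step.S Full.step) = true := by
  decide +kernel

theorem sizes : A.step.n * 1 = 8 ∧ AB.step.n = 60 ∧ P.step.n = 3125 ∧ Full.step.n = 3906 ∧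
    Full.step.S = [0, 1, 2, 3, 4, 5, 6, 7, 8, 9, 10, 11] := ⟨rfl, rfl, rfl, rfl, rfl⟩

variable {G : Type*} [Group G] {e : ℕ → G}

theorem val_eq (w : List ℕ) (hw : ∀ g ∈ w, g < 12) :
    Signed.val (fun g => (e g)⁻¹) w = ((w.map e).prod)⁻¹ := by
  induction w with
  | nil => simp [Signed.val]
  | cons g w ih =>
    have hg : g ≠ eps := by have := hw g (by simp); simp only [eps]; omega
    rw [Signed.val, ih fun a ha => hw a (List.mem_cons_of_mem _ ha), List.map_cons, List.prod_cons,
      mul_inv_rev]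
    simp [gen, hg]

theorem step_bound (he : ∀ g < 6, e g * e (g + 6) = 1)
    (hrel : ∀ j < 44, ((relWord j).map e).prod = 1) {c : Signed.Cert} (hv : c.Valid) {S : List ℕ}
    (hok : (coversRels c && lettersOK c && coversSub S c) = true) {m : ℕ}
    (hfin : Finite (Subgroup.closure ((fun g => (e g)⁻¹) '' {g | g ∈ S})))
    (hm : Nat.card (Subgroup.closure ((fun g => (e g)⁻¹) '' {g | g ∈ S})) ≤ m) :
    Finite (Subgroup.closure ((fun g => (e g)⁻¹) '' {g | g ∈ c.S})) ∧
      Nat.card (Subgroup.closure ((fun g => (e g)⁻¹) '' {g | g ∈ c.S})) ≤ c.n * m := by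
  simp only [coversRels, lettersOK, coversSub, Bool.and_eq_true, Bool.or_eq_true,
    List.all_eq_true, List.any_eq_true, Nat.blt_eq, Nat.beq_eq, List.mem_range] at hok
  obtain ⟨⟨hR, hk, hlet⟩, hU⟩ := hok
  have he' : ∀ g < 6, e (g + 6) * e g = 1 := fun g hg => by
    rw [eq_inv_of_mul_eq_one_right (he g hg), inv_mul_cancel]
  refine hv.card_le (x := fun g => (e g)⁻¹) ?_ ?_ ?_ ?_ hfin hm
  · intro g hg
    rw [hk] at hg ⊢
    rw [← mul_inv_rev, he' g hg, inv_one]
  · simp only [List.all_eq_true, Nat.blt_eq, hk]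
    exact hlet
  · intro r hr
    have hl : ∀ g ∈ r, g < 12 := hlet r (List.mem_append_left _ hr)
    rw [val_eq r hl, inv_eq_one]
    rcases hR r hr with (⟨w, hw, hrw⟩ | hnil) | ⟨g, hg, h | h⟩
    · obtain ⟨j, hj, rfl⟩ := List.mem_map.1 hw
      rw [beqW_eq hrw]
      exact hrel j (List.mem_range.1 hj)
    · rw [List.isEmpty_iff.1 hnil]; simp
    · rw [beqW_eq h]; simpa using he g hg
    · rw [beqW_eq h]; simpa using he' g hg
  · intro u hu
    have hmem : ∀ g ∈ u, (e g)⁻¹ ∈ Subgroup.closure ((fun g => (e g)⁻¹) '' {g | g ∈ S}) := by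
      intro g hg
      obtain ⟨-, h, hh, rfl⟩ := hU u hu g hg
      exact Subgroup.subset_closure ⟨_, hh, rfl⟩
    rw [val_eq u fun g hg => (hU u hu g hg).1]
    refine inv_mem (Subgroup.list_prod_mem _ fun a ha => ?_)
    obtain ⟨g, hg, rfl⟩ := List.mem_map.1 ha
    simpa using inv_mem (hmem g hg)

/-- The order of a group generated by such elements is at most that of G2(5). -/
theorem card_le (he : ∀ g < 6, e g * e (g + 6) = 1)
    (hrel : ∀ j < 44, ((relWord j).map e).prod = 1)
    (hgen : Subgroup.closure (e '' {g | g < 6}) = ⊤) :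
    Finite G ∧ Nat.card G ≤ 5859000000 := by
  have h0 : Subgroup.closure ((fun g => (e g)⁻¹) '' {g | g ∈ ([] : List ℕ)}) = ⊥ := by simp
  obtain ⟨f1, c1⟩ := step_bound he hrel A.step_valid A_ok (m := 1) (by rw [h0]; infer_instance)
    (by rw [h0]; simp)
  obtain ⟨f2, c2⟩ := step_bound he hrel AB.step_valid AB_ok f1 c1
  obtain ⟨f3, c3⟩ := step_bound he hrel P.step_valid P_ok f2 c2
  obtain ⟨f4, c4⟩ := step_bound he hrel Full.step_valid Full_ok f3 c3
  obtain ⟨s1, s2, s3, s4, hS⟩ := sizes
  rw [s1, s2, s3, s4] at c4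
  have htop : Subgroup.closure ((fun g => (e g)⁻¹) '' {g | g ∈ Full.step.S}) = ⊤ := by
    rw [eq_top_iff, ← hgen, Subgroup.closure_le]
    rintro _ ⟨g, hg, rfl⟩
    have hg' : g < 6 := hg
    have hmem : g ∈ Full.step.S := by
      rw [hS]
      interval_cases g <;> decide
    have := inv_mem (Subgroup.subset_closure (Set.mem_image_of_mem (fun g => (e g)⁻¹) hmem) :
      (e g)⁻¹ ∈ Subgroup.closure ((fun g => (e g)⁻¹) '' {g | g ∈ Full.step.S}))
    simpa using this
  rw [htop] at f4 c4
  exact ⟨Finite.of_equiv _ Subgroup.topEquiv.toEquiv,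
    (Nat.card_congr Subgroup.topEquiv.toEquiv).ge.trans (c4.trans (by norm_num))⟩

end Cfsg.Lib.CosetEnum.LyG2
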