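import Cfsg.Agent.Lib.CosetEnum.LyG2.Bound
import Cfsg.Agent.Lib.CosetEnum.LyG2.Adjoint
import Cfsg.Agent.Lib.CosetEnum.LyRep.Rep
import Cfsg.Agent.S1055
import Cfsg.Agent.S1059

/-!
# G2(5) in the presented Lyons group

The group presented by the relators without `z` has at most the order of G2(5), maps onto it, and
therefore is it; being simple it embeds in the presented Lyons group, where `a` is not trivial.
-/

set_option autoImplicit false

namespace Cfsg.Lib.CosetEnum.LyG2

open Cfsg.Spor Cfsg.Lie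

/-- The relators of the presented Lyons group. -/
abbrev lyRels : Set (FreeGroup Ly.Gen) := coxRelators Ly.edges ∪ {r | r ∈ Ly.extra}

theorem mk_extra {j : ℕ} (hj : j < 44) :
    PresentedGroup.mk lyRels (Ly.extra.getD j 1) = 1 := by
  have hj' : j < Ly.extra.length := lt_of_lt_of_le hj le_length_extra
  refine PresentedGroup.one_of_mem (Or.inr ?_)
  rw [List.getD_eq_getElem _ _ hj']
  exact List.getElem_mem hj'

/-- The letters in the presented Lyons group. -/
def lyLetter (g : ℕ) : Ly :=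
  match g with
  | 0 => PresentedGroup.mk lyRels Ly.a
  | 1 => PresentedGroup.mk lyRels Ly.b
  | 2 => PresentedGroup.mk lyRels Ly.c
  | 3 => PresentedGroup.mk lyRels Ly.d
  | 4 => PresentedGroup.mk lyRels Ly.e
  | 5 => PresentedGroup.mk lyRels Ly.c5
  | 6 => (PresentedGroup.mk lyRels Ly.a)⁻¹
  | 7 => (PresentedGroup.mk lyRels Ly.b)⁻¹
  | 8 => (PresentedGroup.mk lyRels Ly.c)⁻¹
  | 9 => (PresentedGroup.mk lyRels Ly.d)⁻¹
  | 10 => (PresentedGroup.mk lyRels Ly.e)⁻¹
  | 11 => (PresentedGroup.mk lyRels Ly.c5)⁻¹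
  | _ => 1

theorem lyLetter_pair : ∀ g < 6, lyLetter g * lyLetter (g + 6) = 1 := by
  intro g hg
  interval_cases g <;> exact mul_inv_cancel _

theorem mk_defs :
    PresentedGroup.mk lyRels Ly.c1 = PresentedGroup.mk lyRels Ly.c ∧
    PresentedGroup.mk lyRels Ly.c2 = PresentedGroup.mk lyRels (Ly.a⁻¹ * Ly.c * Ly.a) ∧
    PresentedGroup.mk lyRels Ly.c3 = PresentedGroup.mk lyRels (Ly.b⁻¹ * Ly.c * Ly.b) ∧
    PresentedGroup.mk lyRels Ly.c4 = PresentedGroup.mk lyRels ((Ly.b⁻¹)⁻¹ * Ly.c * Ly.b⁻¹) ∧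
    PresentedGroup.mk lyRels Ly.c5 =
      PresentedGroup.mk lyRels (Ly.c1⁻¹ * Ly.c2⁻¹ * Ly.c1 * Ly.c2) ∧
    PresentedGroup.mk lyRels Ly.e = PresentedGroup.mk lyRels ((Ly.b ^ 2)⁻¹ *
      (Ly.a⁻¹ * Ly.c1⁻¹ * Ly.a * Ly.c1) * Ly.a⁻¹ * Ly.c1 * Ly.a * Ly.d * Ly.c1 * Ly.b * Ly.a *
        Ly.b⁻¹ * Ly.d * Ly.c1 * Ly.d) := by
  have key : ∀ {j : ℕ} {x y : FreeGroup Ly.Gen}, j < 44 → Ly.extra.getD j 1 = x * y⁻¹ →
      PresentedGroup.mk lyRels x = PresentedGroup.mk lyRels y := fun hj h => by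
    have := mk_extra hj
    rwa [h, map_mul, map_inv, mul_inv_eq_one] at this
  exact ⟨key (j := 5) (by norm_num) rfl, key (j := 6) (by norm_num) rfl,
    key (j := 7) (by norm_num) rfl, key (j := 8) (by norm_num) rfl, key (j := 9) (by norm_num) rfl,
    key (j := 28) (by norm_num) rfl⟩

theorem lyLetter_rel : ∀ j < 44, ((relWord j).map lyLetter).prod = 1 := by
  intro j hj
  obtain ⟨h1, h2, h3, h4, -, -⟩ := mk_defs
  refine ((Signed.relatorWord_spec (k := 6) lyLetter_pair genWord genWord_lt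
    (PresentedGroup.mk lyRels) (Ly.extra.getD j 1) fun p hp => ?_).2).trans (mk_extra hj)
  have hne := List.all_eq_true.1 (List.all_eq_true.1 gens_used j (List.mem_range.2 hj)) p hp
  simp only [map_mul, map_inv] at h2 h3 h4
  obtain ⟨x, s⟩ := p
  revert hne
  cases x <;> intro hne <;>
    first
      | exact (Bool.false_ne_true hne).elim
      | simp [genWord, lyLetter, h1, h2, h3, h4, mul_assoc]

/-- The subgroup generated by the images of `a, b, c, d`. -/
abbrev abcd : Subgroup Ly :=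
  (Subgroup.closure ({Ly.a, Ly.b, Ly.c, Ly.d} : Set (FreeGroup Ly.Gen))).map
    (PresentedGroup.mk lyRels)

theorem lyLetter_closure : Subgroup.closure (lyLetter '' {g | g < 6}) = abcd := by
  have mem : ∀ x ∈ ({Ly.a, Ly.b, Ly.c, Ly.d} : Set (FreeGroup Ly.Gen)),
      PresentedGroup.mk lyRels x ∈ abcd := fun x hx =>
    Subgroup.mem_map_of_mem _ (Subgroup.subset_closure hx)
  have ha := mem Ly.a (by simp)
  have hb := mem Ly.b (by simp)
  have hc := mem Ly.c (by simp)
  have hd := mem Ly.d (by simp)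
  obtain ⟨h1, h2, -, -, h5, he⟩ := mk_defs
  simp only [map_mul, map_inv, map_pow, h1, h2] at h5 he
  refine le_antisymm ((Subgroup.closure_le _).2 ?_) ?_
  · rintro _ ⟨g, hg, rfl⟩
    have hg : g < 6 := hg
    interval_cases g <;> simp only [lyLetter, SetLike.mem_coe]
    · exact ha
    · exact hb
    · exact hc
    · exact hd
    · rw [he]
      repeat' first
        | assumption
        | apply mul_mem
        | apply inv_mem
        | apply pow_mem
    · rw [h5]
      repeat' first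
        | assumption
        | apply mul_mem
        | apply inv_mem
  · rw [abcd, MonoidHom.map_closure, Subgroup.closure_le]
    rintro _ ⟨x, hx, rfl⟩
    rcases hx with rfl | rfl | rfl | rfl
    · exact Subgroup.subset_closure ⟨0, by simp, rfl⟩
    · exact Subgroup.subset_closure ⟨1, by simp, rfl⟩
    · exact Subgroup.subset_closure ⟨2, by simp, rfl⟩
    · exact Subgroup.subset_closure ⟨3, by simp, rfl⟩

/-- The subgroup is G2(5). -/
theorem abcd_iso : Nonempty (abcd ≃* chevG2.group (ZMod 5)) := by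
  obtain ⟨ψ, hψ⟩ := exists_surjective
  obtain ⟨hfin, hcard⟩ := card_le sixLetter_pair sixLetter_rel sixLetter_gen
  have hG : Nat.card (chevG2.group (ZMod 5)) = 5859000000 := by
    rw [Cfsg.Agent.S1059.result (F := ZMod 5) (q := 5) (ZMod.card 5)]
    norm_num
  have heq : Nat.card SixGroup = Nat.card (chevG2.group (ZMod 5)) :=
    le_antisymm (hcard.trans hG.ge) (Nat.card_le_card_of_surjective ψ hψ)
  have hbij : Function.Bijective ψ := (Nat.bijective_iff_surjective_and_card ψ).2 ⟨hψ, heq⟩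
  let E : SixGroup ≃* chevG2.group (ZMod 5) := MulEquiv.ofBijective ψ hbij
  have hsimple : IsSimpleGroup (chevG2.group (ZMod 5)) :=
    (Cfsg.Agent.S1055.result (F := ZMod 5) ⟨2, by decide, by decide⟩).1
  have hQ : IsSimpleGroup SixGroup := E.isSimpleGroup
  obtain ⟨φ, hφ, hrange⟩ := exists_hom lyLetter lyLetter_pair lyLetter_rel
  have hker : φ.ker = ⊥ := (hQ.eq_bot_or_eq_top_of_normal φ.ker inferInstance).resolve_right
    fun h => LyRep.mk_a_ne_one <| by
      have h0 : φ (sixLetter 0) = 1 := by rw [← MonoidHom.mem_ker, h]; trivial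
      rwa [hφ 0 (by norm_num)] at h0
  rw [lyLetter_closure] at hrange
  exact ⟨((MulEquiv.subgroupCongr hrange).symm.trans
    (MonoidHom.ofInjective ((MonoidHom.ker_eq_bot_iff φ).1 hker)).symm).trans E⟩

end Cfsg.Lib.CosetEnum.LyG2
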